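import Mathlib.Algebra.Group.Subgroup.Basic
import Mathlib.Algebra.Group.Subgroup.Map
import Mathlib.Tactic.Group
import Mathlib.GroupTheory.GroupAction.ConjAct

/-!
Iterated cores of a subgroup and its conjugate by an involution.
-/

set_option autoImplicit false

namespace CfsgLib.IterCoreE8

variable {G : Type*} [Group G]

/-- The core in `M` of `Y`. -/
def coreIn (M Y : Subgroup G) : Subgroup G := (Y.subgroupOf M).normalCore.map M.subtype

theorem mem_coreIn {M Y : Subgroup G} {z : G} :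
    z ∈ coreIn M Y ↔ z ∈ M ∧ ∀ m ∈ M, m * z * m⁻¹ ∈ Y := by
  constructor
  · rintro ⟨z, hz, rfl⟩
    exact ⟨z.2, fun m hm => hz ⟨m, hm⟩⟩
  · rintro ⟨hz, h⟩
    exact ⟨⟨z, hz⟩, fun m => h m m.2, rfl⟩

/-- The sequence of iterated cores. -/
def seqA (M : Subgroup G) (g : G) : ℕ → Subgroup G
  | 0 => M
  | i + 1 => coreIn M (seqA M g i ⊓ (seqA M g i).map (MulAut.conj g).toMonoidHom)

theorem mem_map_conj {H : Subgroup G} {g : G} (hg : g * g = 1) {x : G} :
    x ∈ H.map (MulAut.conj g).toMonoidHom ↔ g * x * g⁻¹ ∈ H := by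
  have e : g⁻¹ = g := inv_eq_of_mul_eq_one_right hg
  have key : ∀ a : G, g * (g * a * g⁻¹) * g⁻¹ = a := fun a => by
    rw [e, show g * (g * a * g) * g = g * g * a * (g * g) by simp only [mul_assoc], hg, one_mul,
      mul_one]
  constructor
  · rintro ⟨a, ha, rfl⟩
    simp only [MulEquiv.coe_toMonoidHom, MulAut.conj_apply, key]
    exact ha
  · exact fun h => ⟨_, h, by simp only [MulEquiv.coe_toMonoidHom, MulAut.conj_apply, key]⟩

theorem mem_succ {M : Subgroup G} {g : G} (hg : g * g = 1) {i : ℕ} {z : G} :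
    z ∈ seqA M g (i + 1) ↔
      z ∈ M ∧ ∀ m ∈ M, m * z * m⁻¹ ∈ seqA M g i ∧ g * (m * z * m⁻¹) * g⁻¹ ∈ seqA M g i := by
  simp only [seqA, mem_coreIn, Subgroup.mem_inf, mem_map_conj hg]

theorem seqA_le {M : Subgroup G} (g : G) : ∀ i, seqA M g i ≤ M
  | 0 => le_rfl
  | _ + 1 => fun _ hz => (mem_coreIn.mp hz).1

theorem conj_mem_succ {M : Subgroup G} {g : G} {i : ℕ} {z m : G} (hm : m ∈ M)
    (hz : z ∈ seqA M g (i + 1)) : m * z * m⁻¹ ∈ seqA M g (i + 1) := by
  obtain ⟨hzM, h⟩ := mem_coreIn.mp hz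
  refine mem_coreIn.mpr ⟨mul_mem (mul_mem hm hzM) (inv_mem hm), fun n hn => ?_⟩
  rw [show n * (m * z * m⁻¹) * n⁻¹ = n * m * z * (n * m)⁻¹ by group]
  exact h _ (mul_mem hn hm)

theorem seqB_succ {M : Subgroup G} {g : G} (hg : g * g = 1) (i : ℕ) :
    (seqA M g (i + 1)).map (MulAut.conj g).toMonoidHom =
      coreIn (M.map (MulAut.conj g).toMonoidHom)
        (seqA M g i ⊓ (seqA M g i).map (MulAut.conj g).toMonoidHom) := by
  have key : ∀ a : G, g * (g * a * g⁻¹) * g⁻¹ = a := fun a => by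
    rw [inv_eq_of_mul_eq_one_right hg, show g * (g * a * g) * g = g * g * a * (g * g) by
      simp only [mul_assoc], hg, one_mul, mul_one]
  ext x
  rw [mem_map_conj hg, mem_succ hg, mem_coreIn, mem_map_conj hg]
  refine and_congr_right fun _ => ⟨fun h m hm => ?_, fun h m hm => ?_⟩
  · have := h _ ((mem_map_conj hg).mp hm)
    rw [show g * m * g⁻¹ * (g * x * g⁻¹) * (g * m * g⁻¹)⁻¹ = g * (m * x * m⁻¹) * g⁻¹ by group,
      key] at this
    rw [Subgroup.mem_inf, mem_map_conj hg]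
    exact ⟨this.2, this.1⟩
  · have := h (g * m * g⁻¹) ((mem_map_conj hg).mpr (by rw [key]; exact hm))
    rw [Subgroup.mem_inf, mem_map_conj hg] at this
    have e : g * (g * m * g⁻¹ * x * (g * m * g⁻¹)⁻¹) * g⁻¹ = m * (g * x * g⁻¹) * m⁻¹ := by
      rw [show g * (g * m * g⁻¹ * x * (g * m * g⁻¹)⁻¹) * g⁻¹ =
        g * (g * m * g⁻¹) * g⁻¹ * (g * x * g⁻¹) * (g * (g * m * g⁻¹) * g⁻¹)⁻¹ by group, key]
    rw [e] at this
    refine ⟨this.2, ?_⟩
    rw [← e, key]
    exact this.1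

theorem normalCore_le_seqA {M : Subgroup G} {g : G} (hg : g * g = 1) :
    ∀ i, M.normalCore ≤ seqA M g i
  | 0 => M.normalCore_le
  | i + 1 => fun z hz => by
    rw [mem_succ hg]
    refine ⟨M.normalCore_le hz, fun m _ => ?_⟩
    have h := normalCore_le_seqA (M := M) hg i
    have h1 := Subgroup.Normal.conj_mem M.normalCore_normal z hz m
    exact ⟨h h1, h (Subgroup.Normal.conj_mem M.normalCore_normal _ h1 g)⟩

end CfsgLib.IterCoreE8
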