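import Cfsg.Agent.IterCoreE8.Basic
import Cfsg.Agent.Chev.GoodAll
import Cfsg.Agent.Chev.WeaklyClosed
import Cfsg.Agent.Chev.CoxeterW
import Cfsg.Agent.BorelTits.Filtration

/-!
The maximal parabolic subgroup of `E8(2)` at the branch node and its conjugate by the reflection at
that node: the iterated cores are the terms of the grading filtration.
-/

set_option autoImplicit false

namespace CfsgLib.IterCoreE8

open Cfsg.Lie CfsgLib.Chev CfsgLib.BorelTits Matrix
open scoped MatrixGroups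

abbrev D : ChevalleyDatum := chevE8
abbrev T : Tab D := E8Data.tab
theorem G : T.Good := good_E8
abbrev K := ZMod 2

/-- The branch node. -/
def p3 : Fin D.rank := (3 : Fin 8)

/-- The other nodes. -/
def J : Set ℕ := {j | j ≠ 3}

/-- The coefficient of the branch fundamental root. -/
def cf (s : ℕ) : ℤ := T.cor s 3

/-- The image of a root under a word. -/
def wimg (L : List (Fin D.rank)) (s : ℕ) : ℕ := T.wordT (L.map Fin.val) s

def wordsA : List (List (Fin D.rank)) :=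
  ([[], [1], [2], [4], [1, 2], [1, 4], [2, 0], [2, 4], [4, 5], [1, 2, 0], [1, 2, 4], [1, 4, 5],
   [2, 0, 4], [2, 4, 5], [4, 5, 6], [1, 2, 0, 4], [1, 2, 4, 5], [1, 4, 5, 6], [2, 0, 4, 5],
   [2, 4, 5, 6], [4, 5, 6, 7], [1, 2, 0, 4, 5], [1, 2, 4, 5, 6], [1, 4, 5, 6, 7], [2, 0, 4, 5, 6],
   [2, 4, 5, 6, 7], [1, 2, 0, 4, 5, 6], [1, 2, 4, 5, 6, 7], [2, 0, 4, 5, 6, 7],
   [1, 2, 0, 4, 5, 6, 7]] : List (List (Fin 8)))

def wordsB : List (List (Fin D.rank)) :=
  ([[], [1, 2, 4], [2, 0, 4, 5], [1, 4, 5, 6], [2, 4, 5, 6, 7], [1, 2, 0], [4]] : List (List (Fin 8)))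

/-- Words giving a regular combination. -/
def v1 : List (Fin D.rank) := ([2, 4, 5] : List (Fin 8))
def v3 : List (Fin D.rank) := ([4] : List (Fin 8))
def v4 : List (Fin D.rank) := ([1, 2, 0, 4, 5, 6] : List (Fin 8))

/-- `cf` is a combination of Cartan integers. -/
def chkCf : Bool :=
  allBelow (fun s => decide (cf s = 10 * T.cart 0 s + 15 * T.cart 1 s + 20 * T.cart 2 s +
    30 * T.cart 3 s + 24 * T.cart 4 s + 18 * T.cart 5 s + 12 * T.cart 6 s + 6 * T.cart 7 s))
    D.nroots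

theorem chkCf_ok : chkCf = true := by decide +kernel

def chkA : Bool :=
  allBelow (fun s => !(decide (cf s = 1)) ||
    wordsA.any fun L => Nat.beq (wimg L s) (D.simple 3)) D.nroots

theorem chkA_ok : chkA = true := by decide +kernel

def chkAPos : Bool :=
  wordsA.all fun L => allBelow (fun s => !(decide (1 ≤ cf (wimg L s))) ||
    Nat.ble D.nroots (Nat.mul 2 s)) D.nroots

theorem chkAPos_ok : chkAPos = true := by decide +kernel

def chkBPos : Bool :=
  wordsB.all fun L => allBelow (fun s => !(decide (2 ≤ cf (wimg (p3 :: L) s))) ||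
    Nat.ble D.nroots (Nat.mul 2 s)) D.nroots

theorem chkBPos_ok : chkBPos = true := by decide +kernel

def chkB : Bool :=
  allBelow (fun s => !(decide (2 ≤ cf s)) ||
    wordsB.any fun L => decide (cf (wimg (p3 :: L) s) < cf s)) D.nroots

theorem chkB_ok : chkB = true := by decide +kernel

def chkLower : Bool :=
  allBelow (fun s => !(decide (2 ≤ cf s)) || (Nat.ble D.nroots (Nat.mul 2 (T.reflT 3 s)) &&
    decide (cf s ≤ cf (T.reflT 3 s) + 1))) D.nroots

theorem chkLower_ok : chkLower = true := by decide +kernel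

def comb (s : ℕ) : ℤ :=
  cf s + 2 * cf (wimg (p3 :: v1) s) + 4 * cf (wimg [p3] s) + 3 * cf (wimg (p3 :: v3) s) +
    cf (wimg (p3 :: v4) s)

def chkComb : Bool := allBelow (fun i => decide (0 < comb (D.simple i))) D.rank

theorem chkComb_ok : chkComb = true := by decide +kernel

/-- The coefficient as a linear function. -/
noncomputable def fR (s : Fin D.nroots) : ℝ := (cf s.val : ℝ)

theorem fR_mem : fR ∈ lin T := by
  have h : ∀ k : Fin D.rank, (fun s : Fin D.nroots => (T.cart k.val s.val : ℝ)) ∈ lin T :=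
    fun k => Submodule.subset_span (Set.mem_insert_of_mem _ ⟨k, rfl⟩)
  have e : fR = (10 : ℝ) • (fun s : Fin D.nroots => (T.cart 0 s.val : ℝ))
      + (15 : ℝ) • (fun s : Fin D.nroots => (T.cart 1 s.val : ℝ))
      + (20 : ℝ) • (fun s : Fin D.nroots => (T.cart 2 s.val : ℝ))
      + (30 : ℝ) • (fun s : Fin D.nroots => (T.cart 3 s.val : ℝ))
      + (24 : ℝ) • (fun s : Fin D.nroots => (T.cart 4 s.val : ℝ))
      + (18 : ℝ) • (fun s : Fin D.nroots => (T.cart 5 s.val : ℝ))
      + (12 : ℝ) • (fun s : Fin D.nroots => (T.cart 6 s.val : ℝ))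
      + (6 : ℝ) • (fun s : Fin D.nroots => (T.cart 7 s.val : ℝ)) := by
    funext s
    have := (allBelow_iff _ _).mp chkCf_ok s.val s.isLt
    simp only [decide_eq_true_eq] at this
    simp only [fR, this, Pi.add_apply, Pi.smul_apply, smul_eq_mul]
    push_cast
    ring
  rw [e]
  have h' : ∀ (c : ℝ) (k : Fin 8), c • (fun s : Fin D.nroots => (T.cart k.val s.val : ℝ)) ∈ lin T :=
    fun c k => Submodule.smul_mem _ c (h k)
  exact add_mem (add_mem (add_mem (add_mem (add_mem (add_mem (add_mem (h' _ 0) (h' _ 1)) (h' _ 2))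
    (h' _ 3)) (h' _ 4)) (h' _ 5)) (h' _ 6)) (h' _ 7)

/-- A linear function is additive on the commutator terms. -/
theorem lin_comm {f : Fin D.nroots → ℝ} (hf : f ∈ lin T) {r s : ℕ} (hr : r < D.nroots)
    (hs : s < D.nroots) {c : ℕ × ℤ × ℕ × ℕ} (hc : c ∈ T.commT r s) (hcl : c.1 < D.nroots) :
    ∃ i j : ℤ, 1 ≤ i ∧ 1 ≤ j ∧ f ⟨c.1, hcl⟩ = (i : ℝ) * f ⟨r, hr⟩ + (j : ℝ) * f ⟨s, hs⟩ := by
  obtain ⟨i, j, hi, hj, hw⟩ := G.comm_add hr hs hc
  refine ⟨i, j, hi, hj, ?_⟩
  induction hf using Submodule.span_induction with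
  | mem f hf =>
    rcases hf with rfl | ⟨k, rfl⟩
    · have := hw T.gr G.full.cert.isAdd_gr
      rw [T.gr_root hcl, T.gr_root hr, T.gr_root hs] at this
      simp only [this]; push_cast; ring
    · have := hw _ (G.full.cert.isAdd_wt k.isLt)
      rw [T.wt_root hcl, T.wt_root hr, T.wt_root hs] at this
      simp only [this]; push_cast; ring
  | zero => simp
  | add a b _ _ ha hb => simp only [Pi.add_apply, ha, hb]; ring
  | smul a b _ hb => simp only [Pi.smul_apply, smul_eq_mul, hb]; ring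

theorem pw_val (L : List (Fin D.rank)) (s : Fin D.nroots) :
    (G.full.pw L s).val = wimg L s.val := G.pw_apply L s

theorem cf_simple (i : Fin D.rank) : cf (G.full.simp' i).val = if i = p3 then 1 else 0 := by
  have h := G.cor_simple i p3
  have e : (p3 = i) ↔ (i = p3) := eq_comm
  simp only [e] at h
  exact h

theorem fR_dom : Dom G fR := fun i => by
  show (0 : ℝ) ≤ (cf (G.full.simp' i).val : ℝ)
  rw [cf_simple]
  split <;> simp

theorem cf_refl {i : Fin D.rank} (hi : i ≠ p3) (s : Fin D.nroots) :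
    cf (G.full.refl i s).val = cf s.val := by
  have h := (lin_spec G fR_mem).1 i s
  have e : fR (G.full.simp' i) = 0 := by simp [fR, cf_simple, hi]
  rw [e, mul_zero, sub_zero] at h
  simp only [fR] at h
  exact_mod_cast h

theorem mem_J {i : Fin D.rank} : i.val ∈ J ↔ i ≠ p3 := by
  constructor
  · rintro h rfl; exact h rfl
  · intro h e; exact h (Fin.ext e)

theorem cf_pw : ∀ (L : List (Fin D.rank)), (∀ i ∈ L, i.val ∈ J) → ∀ s : Fin D.nroots,
    cf (G.full.pw L s).val = cf s.val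
  | [], _, _ => rfl
  | i :: L, h, s => by
    rw [G.pw_cons, Equiv.Perm.mul_apply, cf_refl (mem_J.mp (h i (List.mem_cons_self ..))),
      cf_pw L (fun j hj => h j (List.mem_cons_of_mem _ hj))]

theorem cf_nonneg {s : ℕ} (h : Tab.IsPos D s) : 0 ≤ cf s :=
  (G.cor_sign h.1 (j := 3) p3.isLt).1 h.2

/-- The roots of level at least `k`. -/
def V (k : ℤ) : Set ℕ := {s | Tab.IsPos D s ∧ k ≤ cf s}

/-- Positive roots whose image has level at least `k`. -/
def VW (k : ℤ) (L : List (Fin D.rank)) : Set ℕ :=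
  {s | ∃ h : s < D.nroots, Tab.IsPos D s ∧ k ≤ cf (G.full.pw L ⟨s, h⟩).val}

theorem closed_VW {k : ℤ} (hk : 0 ≤ k) (L : List (Fin D.rank)) : T.Closed (VW k L) := by
  refine ⟨fun s ⟨_, h, _⟩ => h, fun r ⟨hr, hr1, hr2⟩ s ⟨hs, hs1, hs2⟩ c hc => ?_⟩
  have h1 := (G.comm_keys hr1 hs1 hc).1
  obtain ⟨i, j, hi, hj, e⟩ := lin_comm (lin_pw G L fR_mem) hr hs hc h1.1
  refine ⟨h1.1, h1, ?_⟩
  have e' : cf (G.full.pw L ⟨c.1, h1.1⟩).val =
      i * cf (G.full.pw L ⟨r, hr⟩).val + j * cf (G.full.pw L ⟨s, hs⟩).val := by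
    simp only [fR] at e
    exact_mod_cast e
  rw [e']
  nlinarith [mul_le_mul_of_nonneg_right hi (le_trans hk hr2),
    mul_nonneg (le_trans zero_le_one hj) (le_trans hk hs2)]

theorem V_eq (k : ℤ) : V k = VW k [] := by
  ext s
  exact ⟨fun h => ⟨h.1.1, h.1, h.2⟩, fun ⟨_, h1, h2⟩ => ⟨h1, h2⟩⟩

theorem closed_V {k : ℤ} (hk : 0 ≤ k) : T.Closed (V k) := V_eq k ▸ closed_VW hk []

/-- Meeting a list of closed sets. -/
theorem US_inf_list {α : Type*} (S : α → Set ℕ) {S₀ : Set ℕ} (h₀ : T.Closed S₀) {u : GL D.Idx K}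
    (hu₀ : u ∈ G.US K S₀) : ∀ l : List α, (∀ a ∈ l, T.Closed (S a)) →
    (∀ a ∈ l, u ∈ G.US K (S a)) →
      T.Closed {s | s ∈ S₀ ∧ ∀ a ∈ l, s ∈ S a} ∧ u ∈ G.US K {s | s ∈ S₀ ∧ ∀ a ∈ l, s ∈ S a}
  | [], _, _ => by simpa using ⟨h₀, hu₀⟩
  | a :: l, hc, hu => by
    obtain ⟨h1, h2⟩ := US_inf_list S h₀ hu₀ l (fun b hb => hc b (List.mem_cons_of_mem _ hb))
      fun b hb => hu b (List.mem_cons_of_mem _ hb)
    have e : {s | s ∈ S₀ ∧ ∀ b ∈ a :: l, s ∈ S b} =
        {s | s ∈ S₀ ∧ ∀ b ∈ l, s ∈ S b} ∩ S a := by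
      ext s
      simp only [List.forall_mem_cons, Set.mem_setOf_eq, Set.mem_inter_iff]
      tauto
    have ha := hc a (List.mem_cons_self ..)
    rw [e]
    exact ⟨⟨fun r hr => h1.1 r hr.1, fun r hr s hs c hcc =>
      ⟨h1.2 r hr.1 s hs.1 c hcc, ha.2 r hr.2 s hs.2 c hcc⟩⟩,
      G.US_inf h1 ha h2 (hu a (List.mem_cons_self ..))⟩

theorem unit_eq_one (u : Kˣ) : u = 1 := by
  revert u; decide

theorem hT_eq_one (c : Fin D.rank → Kˣ) : T.hT K c = 1 := by
  rw [show c = 1 from funext fun i => unit_eq_one _, map_one]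

theorem diag_eq_bot : D.diagonalSubgroup K = ⊥ := by
  rw [eq_bot_iff, G.full.diagonal_eq_range]
  rintro _ ⟨c, rfl⟩
  exact hT_eq_one c

theorem borel_eq : D.borelSubgroup K = D.posUnipotent K := by
  rw [ChevalleyDatum.borelSubgroup, diag_eq_bot, sup_bot_eq]

theorem ns_sq_one (i : Fin D.rank) : G.full.ns K i * G.full.ns K i = 1 := by
  rw [G.full.ns_sq i.isLt, G.full.hr_eq_hT (G.full.simple_lt i.isLt)
    (neg_ne_zero.mpr one_ne_zero), hT_eq_one]

/-- The parabolic subgroup. -/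
noncomputable def PJ : Subgroup (GL D.Idx K) := D.parabolicSubgroup K J

theorem pos_le_PJ : D.posUnipotent K ≤ PJ := le_sup_of_le_left G.pos_le_borel

theorem ns_mem_PJ {i : Fin D.rank} (hi : i ≠ p3) : G.full.ns K i ∈ PJ :=
  G.ns_mem_parabolic (mem_J.mpr hi)

theorem nw_mem_PJ : ∀ (L : List (Fin D.rank)), (∀ i ∈ L, i.val ∈ J) → G.full.nw K L ∈ PJ
  | [], _ => one_mem _
  | i :: L, h => by
    rw [G.nw_cons]
    exact mul_mem (G.ns_mem_parabolic (h i (List.mem_cons_self ..)))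
      (nw_mem_PJ L fun j hj => h j (List.mem_cons_of_mem _ hj))

theorem PJ_le_pres : PJ ≤ presGrp K (fe fR) := by
  refine sup_le (borel_le_pres G fR_mem fR_dom) ((Subgroup.closure_le _).mpr ?_)
  rintro g ⟨j, hj, hlt, hg⟩
  obtain rfl : g = G.full.ns K j := Units.ext
    (hg.trans (G.full.coe_nr _ (G.full.simple_lt hlt) _).symm)
  have hn := G.ns_mem_monomial (F := K) ⟨j, hlt⟩
  have he : (G.full.ns K j)⁻¹ = G.full.ns K j :=
    inv_eq_of_mul_eq_one_right (ns_sq_one ⟨j, hlt⟩)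
  have hs : Shift (fe fR) (fe fR) 0 ((G.full.ns K j : GL D.Idx K) : Matrix D.Idx D.Idx K) :=
    monomial_shift G hn (G.rootAct_ns ⟨j, hlt⟩) fun s => by
      show ((cf _ : ℤ) : ℝ) = (cf s.val : ℝ)
      rw [cf_refl (mem_J.mp hj : (⟨j, hlt⟩ : Fin D.rank) ≠ p3)]
  exact ⟨hs, by rw [he]; exact hs⟩

theorem PJ_le_group : PJ ≤ D.group K := by
  refine sup_le G.borel_le_group ((Subgroup.closure_le _).mpr ?_)
  rintro g ⟨j, -, hlt, hg⟩
  obtain rfl : g = G.full.ns K j := Units.ext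
    (hg.trans (G.full.coe_nr _ (G.full.simple_lt hlt) _).symm)
  exact G.ns_mem_group ⟨j, hlt⟩

/-- The involution. -/
noncomputable def s3 : GL D.Idx K := G.full.ns K p3

theorem s3_not_mem : s3 ∉ PJ := by
  intro h
  have e := (monomial_root_entry G (G.ns_mem_monomial p3) (G.rootAct_ns (F := K) p3)).1
    (G.full.simp' p3) (Sum.inr (G.full.refl p3 (G.full.simp' p3)))
  have h1 := (PJ_le_pres h).1 _ _ (e.mpr rfl)
  simp only [fe, Sum.elim_inr, G.refl_simp, (lin_spec G fR_mem).2.1] at h1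
  simp only [fR, cf_simple, if_true, Int.cast_one] at h1
  norm_num at h1

theorem x_neg_not_mem {t : K} (ht : t ≠ 0) :
    G.full.x (Tab.negR D (D.simple p3)) t ∉ PJ := by
  intro h
  have hx : ∀ u, G.full.x (D.simple p3) u ∈ PJ := fun u =>
    pos_le_PJ (G.x_mem_pos (G.pos_simp p3) u)
  rw [G.x_neg_decomp _ ht, Subgroup.mul_mem_cancel_right _ (hx _),
    Subgroup.mul_mem_cancel_left _ (hx _)] at h
  refine s3_not_mem ?_
  have e0 : ∀ u : K, u ≠ 0 → -u⁻¹ = 1 := by decide +kernel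
  have e : -t⁻¹ = (1 : K) := e0 t ht
  rw [e] at h
  exact h

theorem s3_conj_simple (t : K) :
    s3 * G.full.x (D.simple p3) t * s3⁻¹ = G.full.x (Tab.negR D (D.simple p3)) (-t) := by
  rw [s3, G.full.ns_conj p3.isLt (G.full.simple_lt p3.isLt), G.full.simple_reflect p3.isLt,
    (G.full.node_spec p3.isLt).2.2.2.1]
  simp

theorem forall_mem_J (L : List (Fin D.rank)) (h : (L.all fun i => i.val != 3) = true) :
    ∀ i ∈ L, i.val ∈ J := fun i hi => by
  simpa [J] using List.all_eq_true.mp h i hi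

/-- Non-negative combinations of preserved gradings are preserved. -/
theorem shift_comb {a b : Fin D.nroots → ℝ} {c : ℝ} (hc : 0 ≤ c) {M : Matrix D.Idx D.Idx K}
    (ha : Shift (fe a) (fe a) 0 M) (hb : Shift (fe b) (fe b) 0 M) :
    Shift (fe (a + c • b)) (fe (a + c • b)) 0 M := fun x y hne => by
  have e : ∀ w, fe (a + c • b) w = fe a w + c * fe b w := by rintro (w | w) <;> simp [fe]
  rw [e, e]
  nlinarith [ha x y hne, mul_nonneg hc (hb x y hne)]

/-- A subgroup inside `PJ`, normalised by `PJ`, whose `s3`-conjugate is in `PJ`, lies in level two. -/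
theorem le_V_two {X : Subgroup (GL D.Idx K)} (hX : X ≤ PJ)
    (hn : ∀ m ∈ PJ, ∀ z ∈ X, m * z * m⁻¹ ∈ X) (hg : ∀ z ∈ X, s3 * z * s3⁻¹ ∈ PJ) :
    X ≤ G.US K (V 2) := by
  have hsh : ∀ z ∈ X, ∀ v : List (Fin D.rank), (∀ i ∈ v, i.val ∈ J) →
      Shift (fe fun s => fR (G.full.pw (p3 :: v) s)) (fe fun s => fR (G.full.pw (p3 :: v) s)) 0
        (z : Matrix D.Idx D.Idx K) := by
    intro z hz v hv
    set n := G.full.nw K (p3 :: v)
    have hy : n * z * n⁻¹ ∈ presGrp K (fe fR) := by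
      refine PJ_le_pres ?_
      have := hg _ (hn _ (nw_mem_PJ v hv) z hz)
      simpa [n, G.nw_cons, s3, mul_assoc] using this
    have hm := G.nw_mem_monomial (F := K) (p3 :: v)
    have ha := G.rootAct_nw (F := K) (p3 :: v)
    have h1 := monomial_shift G hm ha (f' := fR) (f := fun s => fR (G.full.pw (p3 :: v) s))
      fun s => rfl
    have h2 := monomial_shift G (inv_mem hm) (rootAct_inv G hm ha)
      (f' := fun s => fR (G.full.pw (p3 :: v) s)) (f := fR) fun s => by simp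
    have := (h2.mul₀ hy.1).mul₀ h1
    rw [← Units.val_mul, ← Units.val_mul, show n⁻¹ * (n * z * n⁻¹) * n = z by group] at this
    exact this
  have hXU : X ≤ D.posUnipotent K := by
    intro z hz
    let w : List (Fin D.rank) → Fin D.nroots → ℝ := fun v s => fR (G.full.pw (p3 :: v) s)
    let h : Fin D.nroots → ℝ :=
      fR + (2 : ℝ) • w v1 + (4 : ℝ) • w [] + (3 : ℝ) • w v3 + (1 : ℝ) • w v4
    have hh : h ∈ lin T :=
      add_mem (add_mem (add_mem (add_mem fR_mem
        (Submodule.smul_mem _ _ (lin_pw G _ fR_mem))) (Submodule.smul_mem _ _ (lin_pw G _ fR_mem)))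
        (Submodule.smul_mem _ _ (lin_pw G _ fR_mem))) (Submodule.smul_mem _ _ (lin_pw G _ fR_mem))
    have hval : ∀ i : Fin D.rank, 0 < h (G.full.simp' i) := fun i => by
      have h' := (allBelow_iff _ _).mp chkComb_ok i.val i.isLt
      replace h' := of_decide_eq_true h'
      simp only [h, w, Pi.add_apply, Pi.smul_apply, smul_eq_mul, fR, pw_val, one_mul]
      simp only [comb] at h'
      exact_mod_cast h'
    have hd : Dom G h := fun i => (hval i).le
    have hshift : Shift (fe h) (fe h) 0 (z : Matrix D.Idx D.Idx K) :=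
      shift_comb zero_le_one (shift_comb (by norm_num) (shift_comb (by norm_num)
        (shift_comb (by norm_num) (PJ_le_pres (hX hz)).1
          (hsh z hz v1 (forall_mem_J _ rfl))) (hsh z hz [] (by simp)))
        (hsh z hz v3 (forall_mem_J _ rfl))) (hsh z hz v4 (forall_mem_J _ rfl))
    have hm := mem_parabolic_of_shift G hh hd (PJ_le_group (hX hz)) hshift
    have e : zeroSet G h = ∅ := Set.eq_empty_iff_forall_notMem.mpr fun i ⟨_, hi⟩ =>
      (hval _).ne' hi
    rw [e, ChevalleyDatum.parabolicSubgroup, borel_eq] at hm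
    simpa using hm
  have hN : G.NormalInB X :=
    ⟨fun g hg' v hv => hn g (pos_le_PJ hg') v hv,
      fun c v hv => by rw [hT_eq_one]; simpa using hv⟩
  have hXR : X ≤ G.US K (V 1) := by
    refine le_trans (G.le_rad hXU (J := J) fun i hi v hv => hn _ (G.ns_mem_parabolic hi) v hv) ?_
    rw [G.rad_eq]
    refine G.US_mono fun s hs => ⟨hs.1, ?_⟩
    refine lt_of_le_of_ne (cf_nonneg hs.1) fun e => hs.2 ⟨hs.1.1, fun i hi => ?_⟩
    have : i.val = 3 := not_not.mp hi
    rw [this]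
    exact e.symm
  -- the fundamental root does not occur
  have hA : ∀ y ∈ X, y ∈ G.US K {s | s ∈ V 1 ∧ s ≠ D.simple p3} := by
    intro y hy
    have h2 := G.closed_flip [p3]
    rw [G.pw_singleton, G.flip_refl] at h2
    have hk := G.closed_keep [p3]
    rw [G.pw_singleton, G.keep_refl] at hk
    have h1 : T.Closed {s | s ∈ V 1 ∧ s ≠ D.simple p3} :=
      ⟨fun r hr => hr.1.1, fun r hr s hs c hc => ⟨(closed_V zero_le_one).2 r hr.1 s hs.1 c hc,
        (hk.2 r ⟨hr.1.1, hr.2⟩ s ⟨hs.1.1, hs.2⟩ c hc).2⟩⟩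
    obtain ⟨a, ha, b, hb, rfl⟩ := G.US_split h1 h2 (closed_V zero_le_one) (by
      ext s
      constructor
      · intro hs
        by_cases e : s = D.simple p3
        · exact Or.inr e
        · exact Or.inl ⟨hs, e⟩
      · rintro (hs | hs)
        · exact hs.1
        · rw [Set.mem_singleton_iff.mp hs]
          exact ⟨G.pos_simp p3, ge_of_eq ((cf_simple p3).trans (if_pos rfl))⟩) (hXR hy)
    obtain ⟨t, rfl⟩ := G.mem_X hb
    have ht : t = 0 := by
      by_contra ht
      refine x_neg_not_mem (neg_ne_zero.mpr ht) ?_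
      rw [← s3_conj_simple]
      have h3 : s3 * a * s3⁻¹ ∈ PJ :=
        pos_le_PJ (G.Up_le_pos p3 (G.ns_conj_Up p3 (G.US_mono (S := {s | s ∈ V 1 ∧ s ≠ D.simple p3})
          (S' := {s | Tab.IsPos D s ∧ s ≠ D.simple p3}) (fun s hs => ⟨hs.1.1, hs.2⟩) ha)))
      have h4 := hg _ hy
      rwa [show s3 * (a * G.full.x (D.simple p3) t) * s3⁻¹ =
        s3 * a * s3⁻¹ * (s3 * G.full.x (D.simple p3) t * s3⁻¹) by group,
        Subgroup.mul_mem_cancel_left _ h3] at h4
    rwa [ht, G.full.x_zero, mul_one]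
  intro z hz
  let S : List (Fin D.rank) → Set ℕ := fun L => V 1 ∩ Tab.keepSet (G.full.pw (p3 :: L))
  have hS : ∀ L ∈ wordsA, z ∈ G.US K (S L) := by
    intro L hL
    have hLJ : ∀ i ∈ L, i.val ∈ J := by
      have : (wordsA.all fun L => L.all fun i => i.val != 3) = true := by decide
      exact forall_mem_J L (List.all_eq_true.mp this L hL)
    set n := G.full.nw K L
    have hy := hA _ (hn _ (nw_mem_PJ L hLJ) z hz)
    have hm := G.nw_mem_monomial (F := K) L
    have := G.conj_x_act (rootAct_inv G hm (G.rootAct_nw L)) (S' := S L) (fun r hr => ?_) hy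
    · rwa [show n⁻¹ * (n * z * n⁻¹) * n⁻¹⁻¹ = z by group] at this
    refine ⟨hr.1.1.1, ?_⟩
    set s := (G.full.pw L)⁻¹ ⟨r, hr.1.1.1⟩
    have hrs : (⟨r, hr.1.1.1⟩ : Fin D.nroots) = G.full.pw L s := (Equiv.apply_symm_apply _ _).symm
    have h1 : 1 ≤ cf (G.full.pw L s).val := by rw [← hrs]; exact hr.1.2
    have hp : Tab.IsPos D s.val := by
      have hc := chkAPos_ok
      simp only [chkAPos, List.all_eq_true, allBelow_iff, Bool.or_eq_true, Bool.not_eq_true',
        decide_eq_false_iff_not, Nat.ble_eq] at hc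
      exact ⟨s.isLt, (hc L hL s.val s.isLt).resolve_left (fun h => h (pw_val L s ▸ h1))⟩
    refine ⟨⟨hp, cf_pw L hLJ s ▸ h1⟩, s.isLt, hp, ?_⟩
    rw [G.pw_cons, Equiv.Perm.mul_apply, ← hrs]
    exact (G.refl_pos p3 (s := ⟨r, hr.1.1.1⟩) hr.1.1 fun e => hr.2 (congrArg Fin.val e)).1
  have hc : ∀ L ∈ wordsA, T.Closed (S L) := fun L _ =>
    ⟨fun r hr => hr.1.1, fun r hr s hs c hc =>
      ⟨(closed_V zero_le_one).2 r hr.1 s hs.1 c hc, (G.closed_keep _).2 r hr.2 s hs.2 c hc⟩⟩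
  refine G.US_mono ?_ (US_inf_list S (closed_V zero_le_one) (hXR hz) wordsA hc hS).2
  rintro s ⟨hs, hall⟩
  refine ⟨hs.1, ?_⟩
  by_contra h
  have h1 : cf s = 1 := le_antisymm (by omega) hs.2
  have hc := chkA_ok
  simp only [chkA, allBelow_iff, Bool.or_eq_true, Bool.not_eq_true', decide_eq_false_iff_not,
    List.any_eq_true, Nat.beq_eq] at hc
  obtain ⟨L, hL, e⟩ := (hc s hs.1.1).resolve_left (not_not.mpr h1)
  obtain ⟨-, hlt, -, hp⟩ := hall L hL
  have e' : G.full.pw L ⟨s, hlt⟩ = G.full.simp' p3 := Fin.ext ((pw_val L ⟨s, hlt⟩).trans e)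
  rw [G.pw_cons, Equiv.Perm.mul_apply, e', G.refl_simp] at hp
  exact G.pos_negF.mp hp (G.pos_simp p3)

/-- One step from level `k` to the next. -/
theorem mem_V_succ {k : ℤ} (hk : 2 ≤ k) {z : GL D.Idx K} (h0 : z ∈ G.US K (V k))
    (h : ∀ v : List (Fin D.rank), (∀ i ∈ v, i.val ∈ J) →
      G.full.nw K (p3 :: v) * z * (G.full.nw K (p3 :: v))⁻¹ ∈ G.US K (V k)) :
    z ∈ G.US K (V (k + 1)) := by
  let S : List (Fin D.rank) → Set ℕ := fun L => VW k (p3 :: L)
  have hS : ∀ L ∈ wordsB, z ∈ G.US K (S L) := by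
    intro L hL
    have hLJ : ∀ i ∈ L, i.val ∈ J := by
      have : (wordsB.all fun L => L.all fun i => i.val != 3) = true := by decide
      exact forall_mem_J L (List.all_eq_true.mp this L hL)
    set n := G.full.nw K (p3 :: L)
    have hm := G.nw_mem_monomial (F := K) (p3 :: L)
    have := G.conj_x_act (rootAct_inv G hm (G.rootAct_nw (p3 :: L))) (S' := S L) (fun r hr => ?_)
      (h L hLJ)
    · rwa [show n⁻¹ * (n * z * n⁻¹) * n⁻¹⁻¹ = z by group] at this
    refine ⟨hr.1.1, ?_⟩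
    set s := (G.full.pw (p3 :: L))⁻¹ ⟨r, hr.1.1⟩
    have hrs : (⟨r, hr.1.1⟩ : Fin D.nroots) = G.full.pw (p3 :: L) s :=
      (Equiv.apply_symm_apply _ _).symm
    have h1 : k ≤ cf (G.full.pw (p3 :: L) s).val := by rw [← hrs]; exact hr.2
    refine ⟨s.isLt, ⟨s.isLt, ?_⟩, h1⟩
    have hc := chkBPos_ok
    simp only [chkBPos, List.all_eq_true, allBelow_iff, Bool.or_eq_true, Bool.not_eq_true',
      decide_eq_false_iff_not, Nat.ble_eq] at hc
    exact (hc L hL s.val s.isLt).resolve_left fun hh => hh (by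
      rw [pw_val] at h1
      exact le_trans hk h1)
  refine G.US_mono ?_ (US_inf_list S (closed_V (by omega)) h0 wordsB
    (fun L _ => closed_VW (by omega) _) hS).2
  rintro s ⟨hs, hall⟩
  refine ⟨hs.1, ?_⟩
  by_contra hne
  have hks : cf s = k := le_antisymm (by omega) hs.2
  have hc := chkB_ok
  simp only [chkB, allBelow_iff, Bool.or_eq_true, Bool.not_eq_true', decide_eq_false_iff_not,
    List.any_eq_true, decide_eq_true_eq] at hc
  obtain ⟨L, hL, e⟩ := (hc s hs.1.1).resolve_left (not_not.mpr (by omega))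
  obtain ⟨hlt, -, h2⟩ := hall L hL
  rw [pw_val] at h2
  exact absurd (le_trans h2 (le_of_eq rfl)) (not_le.mpr (hks ▸ e))

/-- The levels are normal in `PJ`. -/
theorem PJ_conj_V {k : ℤ} (hk : 1 ≤ k) :
    ∀ m ∈ PJ, ∀ z ∈ G.US K (V k), m * z * m⁻¹ ∈ G.US K (V k) := by
  suffices h : PJ ≤ Subgroup.normalizer (G.US K (V k) : Set (GL D.Idx K)) by
    exact fun m hm z hz => (Subgroup.mem_normalizer_iff.mp (h hm) z).mp hz
  have hmem : ∀ g : GL D.Idx K, (∀ u ∈ G.US K (V k), g * u * g⁻¹ ∈ G.US K (V k)) →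
      (∀ u ∈ G.US K (V k), g⁻¹ * u * g ∈ G.US K (V k)) →
      g ∈ Subgroup.normalizer (G.US K (V k) : Set (GL D.Idx K)) := fun g h1 h2 => by
    rw [Subgroup.mem_normalizer_iff]
    refine fun u => ⟨h1 u, fun h => ?_⟩
    have := h2 _ h
    rwa [show g⁻¹ * (g * u * g⁻¹) * g = u by group] at this
  refine sup_le ?_ ((Subgroup.closure_le _).mpr ?_)
  · rw [borel_eq, G.posUnipotent_eq]
    refine (Subgroup.closure_le _).mpr ?_
    rintro g ⟨r, hr, t, rfl⟩
    have hc : ∀ v : K, ∀ u ∈ G.US K (V k),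
        G.full.x r v * u * (G.full.x r v)⁻¹ ∈ G.US K (V k) := by
      intro v u hu
      refine G.conj_US _ (fun s hs w => ?_) hu
      have h := G.conj_pos (F := K) hr hs.1 v w (S := V k) fun _ c hc => by
        have h1 := (G.comm_keys hr hs.1 hc).1
        refine ⟨h1, ?_⟩
        obtain ⟨i, j, hi, hj, e⟩ := lin_comm fR_mem hr.1 hs.1.1 hc h1.1
        have e' : cf c.1 = i * cf r + j * cf s := by
          simp only [fR] at e
          exact_mod_cast e
        rw [e']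
        nlinarith [mul_nonneg (le_trans zero_le_one hi) (cf_nonneg hr),
          mul_le_mul_of_nonneg_right hj (le_trans (le_trans zero_le_one hk) hs.2), hs.2]
      have h' := mul_mem (G.x_mem_US (S := V k) hs w) h
      rwa [mul_inv_cancel_left] at h'
    refine hmem _ (hc t) fun u hu => ?_
    have := hc (-t) u hu
    rwa [← G.full.x_inv, inv_inv] at this
  · rintro g ⟨j, hj, hlt, hg⟩
    obtain rfl : g = G.full.ns K j := Units.ext
      (hg.trans (G.full.coe_nr _ (G.full.simple_lt hlt) _).symm)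
    have hj' : (⟨j, hlt⟩ : Fin D.rank) ≠ p3 := mem_J.mp hj
    have he : (G.full.ns K j)⁻¹ = G.full.ns K j :=
      inv_eq_of_mul_eq_one_right (ns_sq_one ⟨j, hlt⟩)
    have hc : ∀ u ∈ G.US K (V k), G.full.ns K j * u * (G.full.ns K j)⁻¹ ∈ G.US K (V k) := by
      refine fun u hu => G.conj_x_act (G.rootAct_ns ⟨j, hlt⟩) (fun s hs => ⟨hs.1.1, ?_⟩) hu
      refine ⟨(G.refl_pos ⟨j, hlt⟩ (s := ⟨s, hs.1.1⟩) hs.1 fun e => ?_).1,
        (cf_refl hj' ⟨s, hs.1.1⟩).symm ▸ hs.2⟩
      have h0 : cf s = 0 := by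
        rw [show s = (G.full.simp' ⟨j, hlt⟩).val from congrArg Fin.val e, cf_simple, if_neg hj']
      have := hs.2
      omega
    refine hmem _ hc fun u hu => ?_
    have := hc u hu
    rw [he] at this ⊢
    exact this

/-- The involution lowers the level by at most one. -/
theorem s3_conj_V {k : ℤ} (hk : 1 ≤ k) {z : GL D.Idx K} (hz : z ∈ G.US K (V (k + 1))) :
    s3 * z * s3⁻¹ ∈ G.US K (V k) := by
  refine G.conj_x_act (G.rootAct_ns p3) (fun s hs => ⟨hs.1.1, ?_⟩) hz
  have hc := chkLower_ok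
  simp only [chkLower, allBelow_iff, Bool.or_eq_true, Bool.and_eq_true, Bool.not_eq_true',
    decide_eq_false_iff_not, decide_eq_true_eq, Nat.ble_eq] at hc
  have h2 : (2 : ℤ) ≤ cf s := le_trans (by omega) hs.2
  obtain ⟨h3, h4⟩ := (hc s hs.1.1).resolve_left (not_not.mpr h2)
  have h5 := hs.2
  refine ⟨⟨Fin.isLt _, h3⟩, ?_⟩
  show k ≤ cf (T.reflT 3 s)
  omega

end CfsgLib.IterCoreE8
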